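/-
Checks of the orbit trees.
-/
import Cfsg.Agent.Lib.Spor.Fi22.ActH.Data

namespace CfsgLib.Spor.Fi22.ActH

open CfsgLib.Spor.TC

set_option maxRecDepth 100000 in
theorem top_ok : act.levelOK top [] = true := by decide +kernel

noncomputable def parts : List Level := [part0, part1, part2]

set_option maxRecDepth 100000 in
theorem parts_ok : act.orbitsOK parts [0, 2, 3, 4, 5, 6, 7, 8, 9] = true := by decide +kernel

noncomputable def bases : List Level := [base0, base1, base2, base3, base4, base5]

set_option maxRecDepth 100000 in
theorem bases_ok : act.levelsOK bases [] = true := by decide +kernel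

end CfsgLib.Spor.Fi22.ActH
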