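/-
Checks of the relators at a range of points.
-/
import Cfsg.Agent.Lib.Spor.Fi22.ActH.Data
import Cfsg.Agent.Lib.Spor.Fi22.Rels

namespace CfsgLib.Spor.Fi22.ActH

open CfsgLib.Spor.TC

set_option maxRecDepth 100000 in
theorem range0 : act.RangeOK relsG 0 79 :=
  Act.RangeOK.of_check _ (by decide +kernel)

set_option maxRecDepth 100000 in
theorem range79 : act.RangeOK relsG 79 158 :=
  Act.RangeOK.of_check _ (by decide +kernel)

set_option maxRecDepth 100000 in
theorem range158 : act.RangeOK relsG 158 237 :=
  Act.RangeOK.of_check _ (by decide +kernel)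

end CfsgLib.Spor.Fi22.ActH
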