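/-
The action with its checks.
-/
import Cfsg.Agent.Lib.Spor.Fi22.ActH.Orbits
import Cfsg.Agent.Lib.Spor.Fi22.CH.All
import Cfsg.Agent.Lib.Spor.Fi22.ActH.Range0
import Cfsg.Agent.Lib.Spor.Fi22.ActH.Range1
import Cfsg.Agent.Lib.Spor.Fi22.ActH.Range2
import Cfsg.Agent.Lib.Spor.Fi22.ActH.Range3
import Cfsg.Agent.Lib.Spor.Fi22.ActH.Range4
import Cfsg.Agent.Lib.Spor.Fi22.ActH.Range5
import Cfsg.Agent.Lib.Spor.Fi22.ActH.Range6
import Cfsg.Agent.Lib.Spor.Fi22.ActH.Range7
import Cfsg.Agent.Lib.Spor.Fi22.ActH.Range8
import Cfsg.Agent.Lib.Spor.Fi22.ActH.Range9
import Cfsg.Agent.Lib.Spor.Fi22.ActH.Range10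
import Cfsg.Agent.Lib.Spor.Fi22.ActH.Range11
import Cfsg.Agent.Lib.Spor.Fi22.ActH.Range12
import Cfsg.Agent.Lib.Spor.Fi22.ActH.Range13
import Cfsg.Agent.Lib.Spor.Fi22.ActH.Range14

namespace CfsgLib.Spor.Fi22.ActH

open CfsgLib.Spor.TC

theorem valid : act.Valid relsG :=
  ⟨((((((((((((((((((((((((((((((((((((((((((((range0.append _ range79).append _ range158).append _ range237).append _ range316).append _ range395).append _ range474).append _ range553).append _ range632).append _ range711).append _ range790).append _ range869).append _ range948).append _ range1027).append _ range1106).append _ range1185).append _ range1264).append _ range1343).append _ range1422).append _ range1501).append _ range1580).append _ range1659).append _ range1738).append _ range1817).append _ range1896).append _ range1975).append _ range2054).append _ range2133).append _ range2212).append _ range2291).append _ range2370).append _ range2449).append _ range2528).append _ range2607).append _ range2686).append _ range2765).append _ range2844).append _ range2923).append _ range3002).append _ range3081).append _ range3160).append _ range3239).append _ range3318).append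 _ range3397).append _ range3476), by decide +kernel, by decide +kernel⟩

end CfsgLib.Spor.Fi22.ActH
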